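import Cfsg.Agent.Lib.Helper58.WrSyl.Defs

set_option autoImplicit false

namespace Cfsg.Agent.Lib.Helper12.WrSyl

open Cfsg Cfsg.Agent.Lib.Helper58.WrSyl
open scoped MatrixGroups

/-- homomorphisms map commutator subgroups into commutator subgroups -/
theorem map_mem_commutator {H K : Type*} [Group H] [Group K] (f : H →* K) {x : H}
    (hx : x ∈ commutator H) : f x ∈ commutator K := by
  have h1 : f x ∈ (commutator H).map f := ⟨x, hx, rfl⟩
  rw [commutator_def, Subgroup.map_commutator] at h1
  exact Subgroup.commutator_mono le_top le_top h1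

/-- [T2a] -/
theorem PowComm.of_equiv {p : ℕ} {H K : Type*} [Group H] [Group K] (e : H ≃* K)
    (h : PowComm p H) : PowComm p K := by
  intro x
  have := map_mem_commutator e.toMonoidHom (h (e.symm x))
  simpa using this

theorem isElementaryAbelian_map {p : ℕ} {H K : Type*} [Group H] [Group K] (e : H ≃* K)
    {E : Subgroup H} (hE : IsElementaryAbelian p E) :
    IsElementaryAbelian p (E.map e.toMonoidHom) := by
  obtain ⟨h1, h2⟩ := hE
  refine ⟨Subgroup.map_isMulCommutative E e.toMonoidHom, ?_⟩
  rintro _ ⟨a, ha, rfl⟩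
  rw [← map_pow, h2 a ha, map_one]

/-- [T2b] -/
theorem HasNEA.of_equiv {p k : ℕ} {H K : Type*} [Group H] [Group K] (e : H ≃* K)
    (h : HasNEA p k H) : HasNEA p k K := by
  obtain ⟨E, hn, he, hc⟩ := h
  refine ⟨E.map e.toMonoidHom, hn.map _ e.surjective, isElementaryAbelian_map e he, ?_⟩
  rw [Subgroup.card_map_of_injective e.injective]
  exact hc

/-- [T2c] -/
theorem NEAle.of_equiv {p k : ℕ} {H K : Type*} [Group H] [Group K] (e : H ≃* K)
    (h : NEAle p k H) : NEAle p k K := by
  intro E hn he
  have := h (E.map e.symm.toMonoidHom) (hn.map _ e.symm.surjective) (isElementaryAbelian_map e.symm he)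
  rwa [Subgroup.card_map_of_injective e.symm.injective] at this

end Cfsg.Agent.Lib.Helper12.WrSyl
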