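import Cfsg.Agent.Lib.Helper58.WrSyl.Defs

set_option autoImplicit false

namespace Cfsg.Agent.Lib.Helper12.WrSyl

open Cfsg Cfsg.Agent.Lib.Helper58.WrSyl
open scoped MatrixGroups

/-- [T3] -/
theorem card_wr (S : Type*) [Group S] [Finite S] (n : ℕ) :
    Nat.card (Wr S n) = Nat.card S ^ n * n.factorial := by
  rw [Nat.card_congr SemidirectProduct.equivProd, Nat.card_prod, Nat.card_fun, Nat.card_perm,
    Nat.card_fin]

end Cfsg.Agent.Lib.Helper12.WrSyl
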