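import Cfsg.Agent.Lib.Helper12.WrSyl.T3

set_option autoImplicit false

namespace Cfsg.Agent.Lib.Helper12.WrSyl

open Cfsg Cfsg.Agent.Lib.Helper58.WrSyl
open scoped MatrixGroups

/-- the subgroup `Q wr R` of `S wr Sym(n)` -/
def stdSub {S : Type*} [Group S] (n : ℕ) (Q : Subgroup S) (R : Subgroup (Equiv.Perm (Fin n))) :
    Subgroup (Wr S n) where
  carrier := {x | (∀ i, x.left i ∈ Q) ∧ x.right ∈ R}
  mul_mem' := by
    rintro a b ⟨ha, ha'⟩ ⟨hb, hb'⟩
    refine ⟨fun i => ?_, ?_⟩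
    · rw [SemidirectProduct.mul_left, Pi.mul_apply, permAut_apply]
      exact Q.mul_mem (ha i) (hb _)
    · rw [SemidirectProduct.mul_right]
      exact R.mul_mem ha' hb'
  one_mem' := ⟨fun i => by rw [SemidirectProduct.one_left]; exact Q.one_mem, by
    rw [SemidirectProduct.one_right]; exact R.one_mem⟩
  inv_mem' := by
    rintro a ⟨ha, ha'⟩
    refine ⟨fun i => ?_, ?_⟩
    · rw [SemidirectProduct.inv_left, permAut_apply, Pi.inv_apply]
      exact Q.inv_mem (ha _)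
    · rw [SemidirectProduct.inv_right]
      exact R.inv_mem ha'

theorem mem_stdSub {S : Type*} [Group S] {n : ℕ} {Q : Subgroup S}
    {R : Subgroup (Equiv.Perm (Fin n))} {x : Wr S n} :
    x ∈ stdSub n Q R ↔ (∀ i, x.left i ∈ Q) ∧ x.right ∈ R := Iff.rfl

/-- the underlying set of `Q wr R` -/
def stdSubEquiv {S : Type*} [Group S] (n : ℕ) (Q : Subgroup S)
    (R : Subgroup (Equiv.Perm (Fin n))) : stdSub n Q R ≃ (Fin n → Q) × R where
  toFun x := (fun i => ⟨x.1.left i, x.2.1 i⟩, ⟨x.1.right, x.2.2⟩)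
  invFun y := ⟨⟨fun i => (y.1 i : S), (y.2 : Equiv.Perm (Fin n))⟩, fun i => (y.1 i).2, y.2.2⟩
  left_inv _ := rfl
  right_inv _ := rfl

theorem card_stdSub {S : Type*} [Group S] [Finite S] (n : ℕ) (Q : Subgroup S)
    (R : Subgroup (Equiv.Perm (Fin n))) :
    Nat.card (stdSub n Q R) = Nat.card Q ^ n * Nat.card R := by
  rw [Nat.card_congr (stdSubEquiv n Q R), Nat.card_prod, Nat.card_fun, Nat.card_fin]

/-- [T4] the standard Sylow subgroup `Q wr R` of `S wr Sym(n)` -/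
theorem exists_std_sylow {S : Type*} [Group S] [Finite S] (p : ℕ) [Fact p.Prime] (n : ℕ)
    (Q : Sylow p S) (R : Sylow p (Equiv.Perm (Fin n))) :
    ∃ T : Sylow p (Wr S n), ∀ x : Wr S n, x ∈ T ↔ (∀ i, x.left i ∈ Q) ∧ x.right ∈ R := by
  have hcard : Nat.card (stdSub n (Q : Subgroup S) (R : Subgroup _)) =
      p ^ (Nat.card (Wr S n)).factorization p := by
    rw [card_stdSub, card_wr, Q.card_eq_multiplicity, R.card_eq_multiplicity, Nat.card_perm,
      Nat.card_fin, Nat.factorization_mul (pow_ne_zero _ Nat.card_pos.ne') (Nat.factorial_ne_zero n),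
      Nat.factorization_pow, Finsupp.add_apply, Finsupp.smul_apply, smul_eq_mul, pow_add, ← pow_mul,
      mul_comm n]
  exact ⟨Sylow.ofCard _ hcard, fun x => Iff.rfl⟩

end Cfsg.Agent.Lib.Helper12.WrSyl
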