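import Cfsg.Agent.Lib.Helper12.WrSyl.T4
import Cfsg.Agent.Lib.Helper47.PCore

set_option autoImplicit false

namespace Cfsg.Agent.Lib.Helper12.WrSyl

open Cfsg Cfsg.Agent.Lib.Helper58.WrSyl
open scoped MatrixGroups

theorem wr_ext {S : Type*} [Group S] {n : ℕ} {x y : Wr S n} (h1 : ∀ i, x.left i = y.left i)
    (h2 : x.right = y.right) : x = y :=
  SemidirectProduct.ext (funext h1) h2

/-- conjugation of an element of the base group -/
theorem conj_left {S : Type*} [Group S] {n : ℕ} (g x : Wr S n) (hx : x.right = 1) (i : Fin n) :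
    (g * x * g⁻¹).left i = g.left i * x.left (g.right.symm i) * (g.left i)⁻¹ := by
  simp only [SemidirectProduct.mul_left, SemidirectProduct.mul_right, SemidirectProduct.inv_left,
    Pi.mul_apply, permAut_apply, hx, mul_one, Pi.inv_apply]
  have : (Equiv.symm g.right⁻¹) ((Equiv.symm g.right) i) = i := by
    change g.right (g.right.symm i) = i
    simp
  rw [this]

theorem conj_right {S : Type*} [Group S] {n : ℕ} (g x : Wr S n) (hx : x.right = 1) :
    (g * x * g⁻¹).right = 1 := by
  simp [SemidirectProduct.mul_right, SemidirectProduct.inv_right, hx]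

theorem stdSub_bot_normal {S : Type*} [Group S] (n : ℕ) (Z : Subgroup S) (hZ : Z.Normal) :
    (stdSub n Z ⊥).Normal := by
  constructor
  intro x hx g
  obtain ⟨h1, h2⟩ := hx
  have h2' : x.right = 1 := h2
  refine ⟨fun i => ?_, ?_⟩
  · rw [conj_left g x h2']
    exact hZ.conj_mem _ (h1 _) _
  · rw [conj_right g x h2']
    exact Subgroup.one_mem _

/-- [W1] -/
theorem hasNEA_wr {S : Type*} [Group S] [Finite S] (n : ℕ) (z : S) (hz : z ∈ Subgroup.center S)
    (hz2 : z ^ 2 = 1) (hz1 : z ≠ 1) (T : Sylow 2 (Wr S n)) :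
    HasNEA 2 n (T : Subgroup (Wr S n)) := by
  set Z : Subgroup S := Subgroup.zpowers z with hZ
  have hZc : Z ≤ Subgroup.center S := by rw [hZ, Subgroup.zpowers_le]; exact hz
  have hZn : Z.Normal := by
    constructor
    intro a ha g
    have := Subgroup.mem_center_iff.1 (hZc ha) g
    rw [this, mul_inv_cancel_right]
    exact ha
  have hZ2 : ∀ a ∈ Z, a * a = 1 := by
    intro a ha
    obtain ⟨k, rfl⟩ := Subgroup.mem_zpowers_iff.1 ha
    rw [← zpow_add, ← two_mul, zpow_mul, zpow_two, ← pow_two, hz2, one_zpow]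
  have hZcard : Nat.card Z = 2 := by
    rw [hZ, Nat.card_zpowers]
    exact orderOf_eq_prime hz2 hz1
  set EW := stdSub n Z ⊥ with hEW
  have hEWn : EW.Normal := stdSub_bot_normal n Z hZn
  have hEWcard : Nat.card EW = 2 ^ n := by
    rw [hEW, card_stdSub, hZcard, Subgroup.card_bot, mul_one]
  have hEWsq : ∀ a ∈ EW, a ^ 2 = 1 := by
    intro a ha
    obtain ⟨h1, h2⟩ := ha
    have h2' : a.right = 1 := h2
    rw [pow_two]
    apply wr_ext
    · intro i
      rw [SemidirectProduct.mul_left, Pi.mul_apply, permAut_apply, h2']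
      exact hZ2 _ (h1 i)
    · rw [SemidirectProduct.mul_right, h2', mul_one]; rfl
  have hEWcomm : ∀ a ∈ EW, ∀ b ∈ EW, a * b = b * a := by
    intro a ha b hb
    obtain ⟨h1, h2⟩ := ha
    obtain ⟨h3, h4⟩ := hb
    have h2' : a.right = 1 := h2
    have h4' : b.right = 1 := h4
    apply wr_ext
    · intro i
      rw [SemidirectProduct.mul_left, SemidirectProduct.mul_left, Pi.mul_apply, Pi.mul_apply,
        permAut_apply, permAut_apply, h2', h4']
      exact Subgroup.mem_center_iff.1 (hZc (h3 i)) _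
    · rw [SemidirectProduct.mul_right, SemidirectProduct.mul_right, h2', h4']
  have hEWp : IsPGroup 2 EW := IsPGroup.of_card (n := n) hEWcard
  have hle : EW ≤ T :=
    (Cfsg.Agent.Lib.Helper47.le_pCore hEWn hEWp).trans (Cfsg.Agent.Lib.Helper47.pCore_le_sylow T)
  refine ⟨EW.subgroupOf T, inferInstance, ⟨⟨⟨?_⟩⟩, ?_⟩, ?_⟩
  · rintro ⟨a, ha⟩ ⟨b, hb⟩
    apply Subtype.ext
    apply Subtype.ext
    exact hEWcomm a.1 ha b.1 hb
  · intro a ha
    apply Subtype.ext
    exact hEWsq a.1 ha
  · rw [Nat.card_congr (Subgroup.subgroupOfEquivOfLe hle).toEquiv, hEWcard]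

end Cfsg.Agent.Lib.Helper12.WrSyl
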