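import Cfsg.Agent.Lib.Helper12.WrSyl.T4
import Cfsg.Agent.Lib.Helper12.WrSyl.T2

set_option autoImplicit false

namespace Cfsg.Agent.Lib.Helper12.WrSyl

open Cfsg Cfsg.Agent.Lib.Helper58.WrSyl
open scoped MatrixGroups

/-- the subgroup of the elements whose `p`-th power is a product of commutators -/
noncomputable def powKer (p : ℕ) (K : Type*) [Group K] : Subgroup K :=
  ((powMonoidHom p : Abelianization K →* Abelianization K).comp Abelianization.of).ker

theorem mem_powKer {p : ℕ} {K : Type*} [Group K] {x : K} :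
    x ∈ powKer p K ↔ x ^ p ∈ commutator K := by
  unfold powKer
  rw [MonoidHom.mem_ker, MonoidHom.comp_apply, powMonoidHom_apply, ← map_pow]
  exact QuotientGroup.eq_one_iff _

theorem map_mem_powKer {p : ℕ} {H K : Type*} [Group H] [Group K] (f : H →* K) (h : PowComm p H)
    (x : H) : f x ∈ powKer p K := by
  rw [mem_powKer, ← map_pow]
  exact map_mem_commutator f (h x)

section homs

variable {S : Type*} [Group S] {n : ℕ} (Q : Subgroup S) (R : Subgroup (Equiv.Perm (Fin n)))
  (T0 : Subgroup (Wr S n)) (hT0 : ∀ x : Wr S n, x ∈ T0 ↔ (∀ i, x.left i ∈ Q) ∧ x.right ∈ R)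

/-- the base group of `Q wr R` -/
def baseHom : (Fin n → Q) →* T0 :=
  ((SemidirectProduct.inl : (Fin n → S) →* Wr S n).comp (Q.subtype.compLeft (Fin n))).codRestrict T0
    (fun b => by
      rw [hT0]
      refine ⟨fun i => ?_, ?_⟩
      · simp
      · simp [R.one_mem])

/-- the top group of `Q wr R` -/
def topHom : R →* T0 :=
  ((SemidirectProduct.inr : Equiv.Perm (Fin n) →* Wr S n).comp R.subtype).codRestrict T0
    (fun σ => by
      rw [hT0]
      refine ⟨fun i => ?_, ?_⟩
      · simp [Q.one_mem]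
      · simp)

theorem eq_base_mul_top (t : T0) :
    t = baseHom Q R T0 hT0 (fun i => ⟨t.1.left i, ((hT0 t.1).1 t.2).1 i⟩) *
      topHom Q R T0 hT0 ⟨t.1.right, ((hT0 t.1).1 t.2).2⟩ := by
  apply Subtype.ext
  exact (SemidirectProduct.inl_left_mul_inr_right t.1).symm

end homs

/-- [W2] -/
theorem powComm_wr {S : Type*} [Group S] [Finite S] (p : ℕ) [Fact p.Prime] (n : ℕ)
    (hS : ∀ Q : Sylow p S, PowComm p (Q : Subgroup S))
    (hR : ∀ R : Sylow p (Equiv.Perm (Fin n)), PowComm p (R : Subgroup (Equiv.Perm (Fin n))))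
    (T : Sylow p (Wr S n)) : PowComm p (T : Subgroup (Wr S n)) := by
  classical
  obtain ⟨Q⟩ : Nonempty (Sylow p S) := inferInstance
  obtain ⟨R⟩ : Nonempty (Sylow p (Equiv.Perm (Fin n))) := inferInstance
  obtain ⟨T0, hT0⟩ := exists_std_sylow p n Q R
  apply PowComm.of_equiv (Sylow.equiv T0 T)
  have hT0' : ∀ x : Wr S n, x ∈ (T0 : Subgroup (Wr S n)) ↔
      (∀ i, x.left i ∈ (Q : Subgroup S)) ∧ x.right ∈ (R : Subgroup (Equiv.Perm (Fin n))) := hT0
  intro t
  rw [← mem_powKer]
  have ht := eq_base_mul_top (Q : Subgroup S) (R : Subgroup (Equiv.Perm (Fin n))) (T0 : Subgroup (Wr S n)) hT0' t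
  rw [ht]
  apply Subgroup.mul_mem
  · set β := baseHom (Q : Subgroup S) (R : Subgroup (Equiv.Perm (Fin n))) (T0 : Subgroup (Wr S n)) hT0' with hβ
    have : ∀ b : Fin n → (Q : Subgroup S), b ∈ (powKer p (T0 : Subgroup (Wr S n))).comap β := by
      intro b
      apply Subgroup.pi_mem_of_mulSingle_mem
      intro i
      rw [Subgroup.mem_comap]
      exact map_mem_powKer (β.comp (MonoidHom.mulSingle (fun _ : Fin n => (Q : Subgroup S)) i))
        (hS Q) (b i)
    exact this _
  · exact map_mem_powKer _ (hR R) _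

end Cfsg.Agent.Lib.Helper12.WrSyl
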