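import Cfsg.Agent.Lib.Helper12.WrSyl.W1
import Cfsg.Agent.Lib.Helper12.WrSyl.W2

set_option autoImplicit false

namespace Cfsg.Agent.Lib.Helper12.WrSyl

open Cfsg Cfsg.Agent.Lib.Helper58.WrSyl
open scoped MatrixGroups

theorem isEA_map {p : ℕ} {H K : Type*} [Group H] [Group K] (f : H →* K)
    {E : Subgroup H} (hE : IsElementaryAbelian p E) : IsElementaryAbelian p (E.map f) := by
  obtain ⟨h1, h2⟩ := hE
  refine ⟨Subgroup.map_isMulCommutative E f, ?_⟩
  rintro _ ⟨a, ha, rfl⟩
  rw [← map_pow, h2 a ha, map_one]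

theorem isEA_comap {p : ℕ} {H K : Type*} [Group H] [Group K] (f : H →* K)
    (hf : Function.Injective f) {E : Subgroup K} (hE : IsElementaryAbelian p E) :
    IsElementaryAbelian p (E.comap f) := by
  obtain ⟨h1, h2⟩ := hE
  refine ⟨⟨⟨?_⟩⟩, ?_⟩
  · rintro ⟨a, ha⟩ ⟨b, hb⟩
    apply Subtype.ext
    apply hf
    have := h1.is_comm.comm ⟨f a, ha⟩ ⟨f b, hb⟩
    have h3 := congrArg Subtype.val this
    simpa using h3
  · intro a ha
    apply hf
    rw [map_pow, h2 _ ha, map_one]

theorem pow_left_of_right {S : Type*} [Group S] {n : ℕ} (x : Wr S n) (hx : x.right = 1) (k : ℕ)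
    (i : Fin n) : (x ^ k).left i = (x.left i) ^ k := by
  have h1 : x = SemidirectProduct.inl x.left := by
    apply wr_ext
    · intro i; simp
    · simp [hx]
  have h2 : x ^ k = SemidirectProduct.inl (x.left ^ k) := by
    rw [map_pow, ← h1]
  rw [h2, SemidirectProduct.left_inl, Pi.pow_apply]

section homs

variable {S : Type*} [Group S] {n : ℕ} (Q : Subgroup S) (R : Subgroup (Equiv.Perm (Fin n)))
  (T0 : Subgroup (Wr S n)) (hT0 : ∀ x : Wr S n, x ∈ T0 ↔ (∀ i, x.left i ∈ Q) ∧ x.right ∈ R)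

theorem baseHom_left (b : Fin n → Q) (i : Fin n) :
    (baseHom Q R T0 hT0 b).1.left i = (b i : S) := by
  simp [baseHom]

theorem baseHom_right (b : Fin n → Q) : (baseHom Q R T0 hT0 b).1.right = 1 := by
  simp [baseHom]

theorem baseHom_injective : Function.Injective (baseHom Q R T0 hT0) := by
  intro a b hab
  funext i
  apply Subtype.ext
  rw [← baseHom_left Q R T0 hT0 a i, ← baseHom_left Q R T0 hT0 b i, hab]

theorem baseHom_of_right (t : T0) (ht : t.1.right = 1) :
    baseHom Q R T0 hT0 (fun i => ⟨t.1.left i, ((hT0 t.1).1 t.2).1 i⟩) = t := by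
  apply Subtype.ext
  apply wr_ext
  · intro i
    rw [baseHom_left]
  · rw [baseHom_right, ht]

end homs

/-- [W3] -/
theorem neaLE_wr {S : Type*} [Group S] [Finite S] (p : ℕ) [Fact p.Prime] (n : ℕ)
    (hS : ∀ Q : Sylow p S, NEAle p 1 (Q : Subgroup S) ∧ ∃ c : (Q : Subgroup S), c ^ p ≠ 1)
    (T : Sylow p (Wr S n)) : NEAle p n (T : Subgroup (Wr S n)) := by
  classical
  obtain ⟨Q⟩ : Nonempty (Sylow p S) := inferInstance
  obtain ⟨R⟩ : Nonempty (Sylow p (Equiv.Perm (Fin n))) := inferInstance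
  obtain ⟨T0, hT0⟩ := exists_std_sylow p n Q R
  apply NEAle.of_equiv (Sylow.equiv T0 T)
  have hT0' : ∀ x : Wr S n, x ∈ (T0 : Subgroup (Wr S n)) ↔
      (∀ i, x.left i ∈ (Q : Subgroup S)) ∧ x.right ∈ (R : Subgroup (Equiv.Perm (Fin n))) := hT0
  obtain ⟨hQ1, c, hc⟩ := hS Q
  set β := baseHom (Q : Subgroup S) (R : Subgroup (Equiv.Perm (Fin n))) (T0 : Subgroup (Wr S n)) hT0'
    with hβ
  have hβl : ∀ b i, (β b).1.left i = (b i : S) := baseHom_left _ _ _ hT0'
  have hβr : ∀ b, (β b).1.right = 1 := baseHom_right _ _ _ hT0'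
  intro E hEn hEe
  -- STEP 1
  have step1 : ∀ e ∈ E, e.1.right = 1 := by
    intro e he
    by_contra hne
    obtain ⟨i, hi⟩ : ∃ i, e.1.right i ≠ i := by
      by_contra hcon
      push Not at hcon
      exact hne (Equiv.ext hcon)
    set ci := β (Pi.mulSingle i c) with hci
    set w := e * (ci * e⁻¹ * ci⁻¹) with hw
    have hwE : w ∈ E := E.mul_mem he (hEn.conj_mem _ (E.inv_mem he) ci)
    have hw' : w.1 = (e.1 * ci.1 * e.1⁻¹) * ci.1⁻¹ := by
      rw [hw]
      simp only [Subgroup.coe_mul, Subgroup.coe_inv]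
      group
    have hsi : e.1.right.symm i ≠ i := by
      intro h
      apply hi
      rw [Equiv.symm_apply_eq] at h
      exact h.symm
    have h1 : (e.1 * ci.1 * e.1⁻¹).left i = 1 := by
      rw [conj_left e.1 ci.1 (hβr _), hci, hβl, Pi.mulSingle_eq_of_ne hsi]
      simp
    have h2 : (e.1 * ci.1 * e.1⁻¹).right = 1 := conj_right e.1 ci.1 (hβr _)
    have h3 : w.1.right = 1 := by
      rw [hw', SemidirectProduct.mul_right, h2, SemidirectProduct.inv_right, hβr]
      simp
    have h4 : w.1.left i = (c : S)⁻¹ := by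
      rw [hw', SemidirectProduct.mul_left, Pi.mul_apply, h1, one_mul, h2, permAut_apply,
        SemidirectProduct.inv_left, permAut_apply, Pi.inv_apply, hβr]
      change ((ci.1.left i)⁻¹ : S) = _
      rw [hci, hβl, Pi.mulSingle_eq_same]
    have h5 : w ^ p = 1 := hEe.2 w hwE
    have h6 : (w.1 ^ p).left i = 1 := by
      have := congrArg Subtype.val h5
      rw [Subgroup.coe_pow] at this
      rw [this]; rfl
    rw [pow_left_of_right w.1 h3, h4, inv_pow, inv_eq_one] at h6
    apply hc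
    apply Subtype.ext
    rw [Subgroup.coe_pow, h6]; rfl
  -- STEP 2
  set E' := E.comap β with hE'
  have hE'n : E'.Normal := hEn.comap β
  have hE'e : IsElementaryAbelian p E' := isEA_comap β (baseHom_injective _ _ _ hT0') hEe
  set Nn : Fin n → Subgroup (Q : Subgroup S) :=
    fun i => E'.map (Pi.evalMonoidHom (fun _ : Fin n => (Q : Subgroup S)) i) with hNn
  have hNcard : ∀ i, Nat.card (Nn i) ≤ p ^ 1 := by
    intro i
    apply hQ1
    · apply hE'n.map
      intro y
      exact ⟨Pi.mulSingle i y, by simp⟩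
    · exact isEA_map _ hE'e
  have hmem : ∀ e : E, (fun k => (⟨e.1.1.left k, ((hT0' e.1.1).1 e.1.2).1 k⟩ : (Q : Subgroup S))) ∈ E' := by
    intro e
    rw [hE', Subgroup.mem_comap, hβ, baseHom_of_right _ _ _ hT0' e.1 (step1 e.1 e.2)]
    exact e.2
  let f : E → (∀ i, Nn i) := fun e i => ⟨⟨e.1.1.left i, ((hT0' e.1.1).1 e.1.2).1 i⟩, ⟨_, hmem e, rfl⟩⟩
  have hf : Function.Injective f := by
    intro a b hab
    apply Subtype.ext
    apply Subtype.ext
    apply wr_ext
    · intro i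
      have := congrFun hab i
      exact congrArg (fun y : Nn i => ((y : (Q : Subgroup S)) : S)) this
    · rw [step1 a.1 a.2, step1 b.1 b.2]
  calc Nat.card E ≤ Nat.card (∀ i, Nn i) := Nat.card_le_card_of_injective f hf
    _ = ∏ i, Nat.card (Nn i) := Nat.card_pi
    _ ≤ ∏ _i : Fin n, p ^ 1 := Finset.prod_le_prod' fun i _ => hNcard i
    _ = p ^ n := by simp

end Cfsg.Agent.Lib.Helper12.WrSyl
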